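import Cfsg.Agent.Lib.SL2s.G4
import Cfsg.Agent.Lib.SL2s.Y0

/-!
# Standard `L₂(2ᵃ)`: the case in which `N(W⟨t⟩)` is transitive on `Wt`
-/

set_option autoImplicit false
set_option linter.unusedSectionVars false

namespace Cfsg.Lib.SL2s

open Subgroup Cfsg.Lib.BG Cfsg.Lib.RI Cfsg.Lib.UE Cfsg.Lib.FGS
open scoped Cfsg.Lib.Transfer
open Cfsg.Lib.SzQ (Con)

variable {G : Type*} [Group G] [Finite G] {A B D E H I K M N P Q R S T U W X Y Z : Subgroup G} {b e f g h i k n r s t u v w x y z : G}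

structure Y3 (t h : G) (Z W R : Subgroup G) : Prop extends Y2 t h Z W where
  c8 : Nat.card Z = 8
  sV : Syl 2 (Z ⊔ zpowers t) 𝐂[t]
  sR : Syl 2 R ⊤
  PR : W ⊔ zpowers t ≤ R
  RN : R ≤ 𝐍(W ⊔ zpowers t)
  trR : ∀ a ∈ W, a * t ∈ hcl R t
  cR : Nat.card R = 16 * Nat.card W
  wc : ∀ i ∈ R, IsConj t i → i ∈ W ⊔ zpowers t
  rho : ∀ v ∈ Z, ∃ y ∈ 𝐍(W ⊔ zpowers t) ⊓ 𝐂[t], y ∈ 𝐂[v] ∧ y ∉ 𝐂(Z)
  el : TL2.El t h Z

namespace Y2
variable (c : Y2 t h Z W)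
include c

theorem H1 (w : G) (m : w ∈ W) : IsConj t (w * t) := let ⟨g, _, e⟩ := c.all w m; ic.2 ⟨g, e⟩
theorem ab : W ≤ 𝐂(W) := fun _ m => mc.2 fun _ n => c.fm.comm_of c.cl c.H1 m n
theorem inv (m : w ∈ W) : cj t w = w⁻¹ := Fm.inv_of c.cl c.H1 m
theorem NW : 𝐍(W ⊔ zpowers t) ≤ 𝐍(W) := c.fm.norm_of c.cl c.H1
theorem om (m : w ∈ W) (e : w * w = 1) : w ∈ Z := c.fm.mem_V c.cl c.H1 m e

theorem ex : ∃ R, Y3 t h Z W R := by
  obtain ⟨h8, rho⟩ := c.fm.eight c.cl c.syl c.nh c.NZ c.idx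
  obtain ⟨T, hT, VT, TN⟩ := c.ex_T
  have sV : Syl 2 (Z ⊔ zpowers t) 𝐂[t] := by
    rwa [← le_antisymm ((le_inf le_rfl (by_contra fun n => ?_)).trans (c.inf hT.pgroup hT.le)) VT]
    obtain ⟨y, m, y1, y2⟩ := ex_sq hT.pgroup n
    have := c.fix_eq (c.sl ⟨hT.le m, TN m⟩) (two_of hT.pgroup m) y1 y2
    rw [h8] at this
    generalize Nat.card ↥(Z ⊓ 𝐂[y]) = n at this
    have : n < 3 := by nlinarith
    interval_cases n <;> omega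
  have c' : TL2.El t h Z := ⟨c.t2, c.Z2, c.c4, c.tC, c.tn, fun X hX l => ⟨c.cV ▸ sV.card_le hX l, fun x m => by
    obtain ⟨g, -, e⟩ := sV.exists_conj_le hX l
    simpa only [← cj_mul, cj_eq_one] using c.elV _ (cj_le.1 e x m)⟩, c.ho, c.hN, c.ht, c.tr, c.nh⟩
  have d := c'.cl c.nZ
  have f := c.fm.tl
  have H1 := c.H1
  have NQ := c.NW
  set P := W ⊔ zpowers t with eP
  have UP : Z ⊔ zpowers t ≤ P := sup_le_sup_right f.le _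
  obtain ⟨R, hR, l⟩ := Syl.exists_ge (f.pgP d) (le_norm P)
  have trR := fun a ha => TL2.Fm.hcl_syl d le_rfl hR l c.idx (c.all a ha)
  have cR := ncard_hcl_mul R t
  rw [f.card_syl d hR.le trR, ← sV.eq_of_le_pgroup
    (le_inf (UP.trans l) sV.le) inf_le_right (pgroup_of_le hR.pgroup inf_le_left), c.cV, h8] at cR
  have RC : P = R ⊓ 𝐂(Z) := (c.inP hR.pgroup l).symm
  have q0 : 0 < Nat.card W := Nat.card_pos
  have cP := c.cP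
  have wc : ∀ i ∈ R, IsConj t i → i ∈ P := fun i hi e => by
    by_contra n
    have i4 : i ∉ 𝐂(Z) := fun e => n (RC ▸ ⟨hi, e⟩)
    have i2 := d.sq e
    have loc := (c'.loc' e (pgroup_of_le hR.pgroup inf_le_left) (inf_le_right : R ⊓ 𝐂[i] ≤ _)).2
    by_cases eQ : Z = W
    · subst eQ
      have pn := hR.le hi
      obtain ⟨x, x1, x2, -, x4⟩ := PGroup.exists_mem_normalizer_of_lt hR.pgroup (lt_of_le_of_ne
        (sup_le l (zpowers_le.2 hi)) fun e => by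
          have := card_sup_zp pn (i2 ▸ P.one_mem) n
          rw [e] at this; rw [eP] at *; omega)
      have m := ((mem_sup_zp pn (i2 ▸ P.one_mem)).1 (cjm x4 zp_mem_sup)).resolve_left fun e => n (cjm' (hR.le x1) e)
      obtain ⟨p, hp, e1⟩ := (c'.conj_out h8 H1 c.nZ pn i2 i4).1 _ m (by simpa using d.sq (ic_cj e x))
      have j1 : p⁻¹ * x ∈ R := R.mul_mem (R.inv_mem (l hp)) x1
      have j2 : p⁻¹ * x * i = i * (p⁻¹ * x) := by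
        rw [inv_mul_cancel_right, cj] at e1
        rw [mul_assoc, show x * i = x * i * x⁻¹ * x by group, ← e1]; group
      have j3 : p⁻¹ * x ∉ P ⊔ zpowers i := fun e => x2 (by simpa using mul_mem (mem_sup_left hp) e)
      generalize p⁻¹ * x = j at j1 j2 j3
      have k1 := R.mul_mem j1 hi
      exact c'.star c.nZ e (e.trans (c'.isConj_out h8 H1 c.nZ pn i2 i4 (hR.le j1) (loc j ⟨j1, mem_cent1.2 j2⟩)
        fun e => j3 (mem_sup_left (RC ▸ ⟨j1, e⟩)))) j2 (e.trans (c'.isConj_out h8 H1 c.nZ pn i2 i4 (hR.le k1)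
          (loc _ ⟨k1, mem_cent1.2 (by rw [j2, mul_assoc, j2])⟩) fun e => j3 (by
            simpa using mul_mem (mem_sup_left (show j * i ∈ P from RC ▸ ⟨k1, e⟩)) (mem_sup_right (inv_mem (mem_zpowers i))))))
    have inv : ∀ a ∈ W, i * (a * a) * i⁻¹ = (a * a)⁻¹ := fun a ha => by
      have m : i * a * i⁻¹ ∈ W := cjm (NQ (hR.le hi)) ha
      have cm := f.comm_of d H1 ha m
      have := loc (a * (i * a * i⁻¹)) ⟨l (mem_sup_left (W.mul_mem ha m)), mem_cent1.2 (by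
        calc _ = i * a * i⁻¹ * a * i := by rw [cm]
          _ = i * a * (i * i)⁻¹ * (i * a * i⁻¹) * (i * i) := by group
          _ = _ := by rw [i2]; group)⟩
      rw [eq_inv_iff_mul_eq_one, ← this, show i * (a * a) * i⁻¹ = i * a * i⁻¹ * (i * a * i⁻¹) by group]
      generalize i * a * i⁻¹ = b at cm
      rw [cm, mul_assoc b b, mul_assoc b a, ← mul_assoc b a a, ← mul_assoc a b a, cm]
    obtain ⟨x, x1, x2, x3⟩ := ex_sq f.pg fun e => eQ (le_antisymm f.le e)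
    refine i4 (Inv.mem_centralizer_iff_conj.2 fun w hw => ?_)
    by_cases w1 : w = 1
    · simp [w1]
    obtain ⟨g, hg, rfl⟩ := c.tr' x3 (fun e => x2 (c.om x1 e)) hw w1
    have := inv _ (cjm (c.zW hg) x1)
    rwa [← cj_mul, c.Z2.inv hw] at this
  refine ⟨R, c, h8, sV, hR.of_norm_le le_top (inf_le_right.trans fun g hg => nm_of fun x hx => ?_), l, hR.le, trR, by omega, wc, rho, c'⟩
  have key : ∀ u ∈ P, IsConj t u → cj g u ∈ P := fun u hu e => wc _ (cjm hg (l hu)) (ic_cj e g)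
  rcases c.mP.1 hx with m | m
  · simpa [cj, mul_assoc, ← mul_assoc t t, c.t2] using P.mul_mem (key _ (P.mul_mem hx zp_mem_sup) (H1 x m)) (key t zp_mem_sup (IsConj.refl t))
  · exact key x hx (by simpa [mul_assoc, c.t2] using H1 _ m)

theorem dl (m : r ∈ 𝐍(W ⊔ zpowers t)) : cj r t * t ∈ W := c.fm.mul_mem c.cl (ic' r t) (cjm m zp_mem_sup)
theorem cjt (m : u ∈ W) (k : w ∈ W) : cj u (w * t) = u * u * (w * t) := by
  rw [cj, mul_assoc, mul_assoc, show t * u⁻¹ = cj t u⁻¹ * t by simp [cj], c.inv (inv_mem m), inv_inv, ← mul_assoc w, ← (mc.1 (c.ab m) w k).eq]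
  group

theorem pi : ∃ k, (∀ w ∈ W, w ^ 2 ^ k ∈ Z) ∧ (∀ v ∈ Z, ∃ w ∈ W, w ^ 2 ^ k = v) ∧ ∀ w ∈ W, w ^ 2 ^ k = 1 → ∃ u ∈ W, u * u = w := by
  classical
  obtain ⟨n, hn⟩ := IsPGroup.iff_card.1 c.W2
  have ex : ∃ k, ∀ w ∈ W, w ^ 2 ^ k = 1 := ⟨n, fun w m => congrArg Subtype.val (hn ▸ pow_card_eq_one' (x := (⟨w, m⟩ : W)))⟩
  obtain ⟨z, z1, z2⟩ := c.ne
  obtain ⟨k, hk⟩ := Nat.exists_eq_succ_of_ne_zero fun e : Nat.find ex = 0 => z2 (by simpa [e] using Nat.find_spec ex z (c.ZW z1))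
  have h1 := Nat.find_spec ex
  obtain ⟨w, w1, w2⟩ : ∃ w ∈ W, w ^ 2 ^ k ≠ 1 := by simpa using Nat.find_min ex (m := k) (by omega)
  rw [hk] at h1
  have a : ∀ w ∈ W, w ^ 2 ^ k ∈ Z := fun w m => c.om (pow_mem m _) (by rw [← pow_add, ← _root_.two_mul, ← pow_succ', h1 w m])
  have mu := mu_pow c.ab (2 ^ k)
  have b : Z ≤ mu.img := c.irr (nm_of fun x m => by
    obtain ⟨w, j, rfl⟩ := mu.mem_img.1 m
    exact mu.mem_img.2 ⟨_, cjm c.hW j, (cj_pow ..).symm⟩) (a w w1) (mu.mem_img.2 ⟨w, w1, rfl⟩) w2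
  have e1 := mu.card (K := mu.pre ⊥) fun w => mu.mem_pre
  have e2 := (mu_sq c.ab).card (K := Z) fun w => ⟨fun m => ⟨c.ZW m, c.Z2 w m⟩, fun m => c.om m.1 m.2⟩
  have e3 : (mu_sq c.ab).img = mu.pre ⊥ := eq_of_le_of_card_le (fun x m => by
    obtain ⟨w, j, rfl⟩ := (Mu.mem_img _).1 m
    exact mu.mem_pre.2 ⟨mul_mem j j, by rw [mem_bot, ← sq, ← pow_mul, ← pow_succ', h1 w j]⟩)
    (Nat.le_of_mul_le_mul_left (by rw [← e2, e1, mul_comm]; exact Nat.mul_le_mul_left _ (card_le b)) (Nat.card_pos (α := Z)))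
  exact ⟨k, a, fun v m => mu.mem_img.1 (b m), fun w m e => (Mu.mem_img _).1 (e3.ge (mu.mem_pre.2 ⟨m, e⟩))⟩

end Y2

namespace Y3
variable (c : Y3 t h Z W R)
include c

theorem R2 : IsPGroup 2 R := c.sR.pgroup
theorem RW : R ≤ 𝐍(W) := c.RN.trans c.NW
theorem RZ : R ≤ 𝐍(Z) := c.RN.trans c.NZ
theorem WR : W ≤ R := le_sup_left.trans c.PR
theorem ZR : Z ≤ R := c.ZW.trans c.WR
theorem tR : t ∈ R := c.PR zp_mem_sup
theorem RC (m : x ∈ R) (k : x ∈ 𝐂(Z)) : x ∈ W ⊔ zpowers t := (c.inP c.R2 c.PR).le ⟨m, k⟩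
theorem VP : Z ⊔ zpowers t ≤ W ⊔ zpowers t := sup_le_sup_right c.ZW _
theorem mVt (m : x ∈ 𝐍(Z)) (k : x ∈ 𝐂[t]) (x2 : Two x) : x ∈ Z ⊔ zpowers t := syl_mem c.sV k x2 (nm_sup m (nm_zp (mc1.1 k)))
theorem cj_t (e : IsConj t u) (m : u ∈ R) : ∃ r ∈ R, cj r t = u := by
  obtain ⟨w, k, rfl⟩ := c.exP (c.wc u m e) fun j => c.nW j e
  exact c.trR w k
theorem reg (m : r ∈ R) (k : w ∈ W) (k' : u ∈ W) (e : cj r t * t = (cj r w)⁻¹ * w * (u * u)) : r ∈ W ⊔ zpowers t := by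
  obtain ⟨s, s1, s2⟩ := c.trR w k
  have : cj (s⁻¹ * (u⁻¹ * r) * s) t = t := by
    rw [cj_mul', cj_mul', cj_eq_iff', inv_inv, cj_mul', cj_eq_iff', inv_inv, show cj s t = _ from s2, c.cjt k' k, cj_mul,
      eq_mul_inv_of_mul_eq e, inv_of_sq c.t2, ← mul_assoc (u * u), (mc.1 (c.ab (mul_mem k' k')) w k).eq]
    group
  have j := mul_mem (mul_mem (inv_mem s1) (mul_mem (inv_mem (c.WR k')) m)) s1
  have := cjm (c.RN s1) (c.VP (c.mVt (c.RZ j) (mc1.2 (cj_eq_iff.1 this)) (two_of c.R2 j)))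
  exact (mul_mem_cancel_left (mem_sup_left (inv_mem k'))).1 (by simpa [cj, mul_assoc] using this)

theorem uq (hU : IsPGroup 2 U) (m : t ∈ U) (k : z ∈ Z) (z1 : z ≠ 1) (k' : z ∈ U) : U ≤ 𝐍(Z) := by
  obtain ⟨g, -, l⟩ := c.sR.exists_conj_le hU le_top
  obtain ⟨r, r1, e⟩ := c.cj_t (ic' g t) (cj_le.1 l t m)
  have n := c.ti (r⁻¹ * g) (mc1.2 (cj_eq_iff.1 (by rw [cj_mul', ← e, cj_inv_cj]))) z k z1
    (by rw [cj_mul']; exact c.RZ (cj_mem (inv_mem r1) (cj_le.1 l z k')))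
  exact fun x m => cjm' (le_norm _ ((mul_mem_cancel_left (c.RZ (inv_mem r1))).1 n)) (c.RZ (cj_le.1 l x m))

theorem odd_t (m : x ∈ 𝐍(Z)) (k : x ∈ 𝐂[t]) : ∃ o ∈ zpowers x, Odd (orderOf o) ∧ x * o⁻¹ ∈ 𝐂(Z) := by
  obtain ⟨p, p1, o, o1, p2, o2, e⟩ := split2 x
  exact ⟨o, o1, o2, by rw [e, mul_inv_cancel_right]; exact c.VC (c.mVt (zpowers_le.2 m p1) (zpowers_le.2 k p1) p2)⟩

theorem conj0 (mx : x ∈ 𝐍(W ⊔ zpowers t)) (my : y ∈ 𝐍(W ⊔ zpowers t)) (x2 : x * x ∈ 𝐂(Z)) (y2 : y * y ∈ 𝐂(Z)) (x1 : x ∉ 𝐂(Z))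
    (y1 : y ∉ 𝐂(Z)) : ∃ n ∈ 𝐍(W ⊔ zpowers t), y⁻¹ * cj n x ∈ 𝐂(Z) := by
  obtain ⟨k, p1, -, p3⟩ := c.pi
  have PN := le_norm (W ⊔ zpowers t)
  have key : ∀ x ∈ 𝐍(W ⊔ zpowers t), ∀ y ∈ 𝐍(W ⊔ zpowers t), (cj x t * t) ^ 2 ^ k = (cj y t * t) ^ 2 ^ k →
      ∃ o ∈ 𝐍(Z), Odd (orderOf o) ∧ y⁻¹ * x * o⁻¹ ∈ 𝐂(Z) := fun x mx y my e => by
    obtain ⟨u, u1, e'⟩ := p3 _ (mul_mem (c.dl mx) (inv_mem (c.dl my))) (by
      rw [(mc.1 (c.ab (c.dl mx)) _ (inv_mem (c.dl my))).mul_pow, e, inv_pow, mul_inv_cancel])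
    have j := c.cjt u1 (c.dl my)
    rw [mul_assoc _ t, c.t2, mul_one, e', ← cj_mul'] at j
    have j' : cj ((u * y)⁻¹ * x) t = t := by rw [cj_mul', cj_eq_iff', inv_inv, j, mul_inv_rev, inv_of_sq c.t2]; simp [mul_assoc, cancel2 c.t2]
    have N := c.NZ (mul_mem (inv_mem (mul_mem (PN (mem_sup_left u1)) my)) mx)
    obtain ⟨o, o1, o2, o3⟩ := c.odd_t N (mc1.2 (cj_eq_iff.1 j'))
    exact ⟨o, zpowers_le.2 N o1, o2, by simpa [cj, mul_assoc] using mul_mem (cjm (nm_cent (inv_mem (c.NZ my))) (c.WC u1)) o3⟩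
  have ne : ∀ x ∈ 𝐍(W ⊔ zpowers t), x * x ∈ 𝐂(Z) → x ∉ 𝐂(Z) → (cj x t * t) ^ 2 ^ k ≠ 1 := fun x mx x2 x1 e => by
    obtain ⟨o, o1, o2, o3⟩ := key x mx 1 (one_mem _) (by simp [e, c.t2])
    rw [inv_one, one_mul] at o3
    refine x1 ((mul_mem_cancel_right (inv_mem (mem_of_odd o2 ?_))).1 o3)
    simpa [cj, mul_assoc] using mul_mem (mul_mem (inv_mem o3) (cjm (nm_cent (c.NZ mx)) (inv_mem o3)) |> fun e => e) x2
  obtain ⟨g, g1, e⟩ := c.tr' (p1 _ (c.dl mx)) (ne x mx x2 x1) (p1 _ (c.dl my)) (ne y my y2 y1)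
  have gN := zpowers_le.2 (c.fm.hP c.cl) g1
  obtain ⟨o, o1, o2, o3⟩ := key _ (cj_mem gN mx) y my (by rw [← e, cj_pow, cj_mul, cj_cj' g x, cj_c1 (c.zt g1)])
  let φ := Z.normalizerMonoidHom
  have K : ∀ g : 𝐍(Z), φ g = 1 ↔ g.1 ∈ 𝐂(Z) := fun g => by rw [← MonoidHom.mem_ker, normalizerMonoidHom_ker]; rfl
  let a : 𝐍(Z) := ⟨_, c.NZ (cj_mem gN mx)⟩
  let b : 𝐍(Z) := ⟨y, c.NZ my⟩
  have b2 : φ b * φ b = 1 := (map_mul φ b b).symm.trans ((K _).2 y2)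
  obtain ⟨n, n1, n2⟩ := exists_cj_of_odd (a := φ a) ((map_mul φ a a).symm.trans ((K _).2 (by
    change cj g x * cj g x ∈ _; exact cj_mul g x x ▸ cjm (nm_cent (c.NZ gN)) x2))) b2 (by
      rw [orderOf_mul_swap, ← inv_of_sq b2, ← map_inv, ← map_mul, show φ (b⁻¹ * a) = φ ⟨o, o1⟩ by
        rw [← mul_inv_eq_one, ← map_inv, ← map_mul, K]; exact o3]
      exact o2.of_dvd_nat ((orderOf_map_dvd φ _).trans (orderOf_mk ..).dvd))
  obtain ⟨n, n3, rfl⟩ := pair_le (H := (𝐍(W ⊔ zpowers t).subgroupOf _).map φ) ⟨a, cj_mem gN mx, rfl⟩ ⟨b, my, rfl⟩ n1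
  exact ⟨n * g, mul_mem n3 gN, by rw [cj_mul']; exact (K (b⁻¹ * cj n a)).1 (by rw [map_mul, map_cj, n2, map_inv, inv_mul_cancel])⟩

variable (a : Am t h X)
include a

theorem nT : t ∉ X := fun m => by
  have e := a.eq_top c.toH0 m
  have := a.si
  have n := a.nab c.toH0
  subst e
  have := topEquiv.symm.isSimpleGroup (G := G)
  have := (c.el.syl (Transfer.pResidual_eq_top_of_simple fun e => n inferInstance)).card_eq c.sR
  have := card_le c.ZW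
  have := c.cR
  have := c.cV
  have := c.c8
  omega
theorem WX : W ≤ X := c.toCf.WX a
theorem PX (m : x ∈ W ⊔ zpowers t) (k : x ∈ X) : x ∈ W := by_contra fun n => by
  obtain ⟨w, j, rfl⟩ := c.exP m n
  exact c.nT a ((mul_mem_cancel_left (c.WX a j)).1 k)
theorem RCX (m : x ∈ R) (k : x ∈ X) (e : x ∈ 𝐂(Z)) : x ∈ W := c.PX a (c.RC m e) k
theorem nC (m : x ∈ R ⊓ X) (n : x ∉ W) : x ∉ 𝐂(Z) := fun e => n (c.RCX a m.1 m.2 e)
theorem cS : Nat.card ↥(R ⊓ X) = 8 * Nat.card W := by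
  have := a.cardS c.toH0 (c.nT a) c.tR
  have := c.cR
  omega

theorem lift (mi : i ∈ R ⊓ X) (i2 : i * i = 1) (i1 : i ∉ W) (mx : x ∈ R ⊓ X) (x2 : x * x ∈ W) (x1 : x ∉ W) :
    ∃ n, ∃ w ∈ W, cj n i = x * w := by
  obtain ⟨n, n1, e⟩ := c.conj0 (c.RN mi.1) (c.RN mx.1) (i2 ▸ one_mem _) (c.WC x2) (c.nC a mi i1) (c.nC a mx x1)
  have xN := c.RN mx.1
  have l : W ⊔ zpowers t ≤ 𝐂(Z) ⊓ 𝐍(W ⊔ zpowers t) := le_inf c.syl.le (le_norm _)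
  have s := syl_sup (c.syl.of_le l inf_le_left) ⟨le_sup_left, sup_le_norm_left (zpowers_le.2 (nm_inf (nm_cent (c.NZ xN))
    (le_norm _ xN)))⟩ (Syl.of_max le_rfl (pg_zp (two_of c.R2 mx.1)) fun _ _ _ e => e) rfl (zpowers_le.2 xN)
  have m := cj_mem n1 (c.RN mi.1)
  obtain ⟨g, g1, j⟩ := s.exists_conj_le (pg_zp (two_of_sq (cj_mul_self i2 n))) (zpowers_le.2 (by
    simpa using mul_mem zp_mem_sup (mem_sup_left (T := zpowers x) (mem_inf.2 ⟨e, mul_mem (inv_mem xN) m⟩))))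
  have gZ : g ∈ 𝐍(Z) := sup_le (inf_le_right.trans c.NZ) (zpowers_le.2 (c.NZ xN)) g1
  have := ((mem_sup_zp' xN (mem_sup_left x2)).1 (cj_le.1 j _ (mem_zpowers _))).resolve_left fun k =>
    c.nC a mi i1 (cjm' (nm_cent (c.NZ n1)) (cjm' (nm_cent gZ) (c.syl.le k)))
  exact ⟨g * n, _, c.PX a this (mul_mem (inv_mem mx.2) (a.cjX (a.cjX mi.2 n) g)), by rw [cj_mul', mul_inv_cancel_left]⟩

end Y3

end Cfsg.Lib.SL2s
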